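import Cfsg.Agent.H970.TwoSporBase_m3
import Cfsg.Agent.H251.Small.Num
import Cfsg.Agent.H58.Rec.Outer_m3
import Cfsg.Agent.H938.Sax.Base
import Cfsg.Agent.Prune
set_option linter.all false
prune_inst 0x7f00000000000000000000000000000000000000000000000000000000000000000000000000000000000000000000000000000000000000000000000000000000000000000000000000000000000000003fffffffffffffffffffffffffffbeffbdffffffff
open scoped Cfsg.Agent.FastGrp

/-!
# Tools for the element orders of proper subgroups of small groups (helper834)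

* `exists_struct'` : `StabK.exists_struct`, and the orders prime to `a c` are orders of the simple section;
* `exists_simple_of` : a subgroup whose order passes only with simple sections of orders in a list;
* `no_order_two` : no elements of order `2 ^ k` (Sylow 2-subgroups would be cyclic);
* `ordGap_of_surv`.
-/

set_option autoImplicit false

namespace Cfsg.Agent.H834.Sax

open Subgroup Cfsg.Agent.H970.StabK Cfsg.Agent.H970.StabNum Cfsg.Agent.H251.Small Cfsg.Agent.H938.Sax
open Cfsg.Agent.H58.Rec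

universe u

section A

variable {H : Type u} [Group H] [Finite H] {p : ℕ} [hp : Fact p.Prime]

/-- **The structure theorem.** -/
theorem exists_struct' {P : Subgroup H} (hP : Nat.card P = p) (hp2 : ¬ p ^ 2 ∣ Nat.card H) :
    ∃ a s c m D : ℕ, Nat.card H = a * s * c ∧ ¬ p ∣ a ∧ Nat.card (normalizer (P : Set H)) = c * D * (p * m) ∧
      D ∣ Nat.card (centralizer (P : Set H)) ∧
      (∀ r : ℕ, r.Prime → ∃ j : ℕ, r ^ j ∣ D ∧ r ^ (a.factorization r) ≡ r ^ j [MOD p]) ∧
      ((s = p ∧ m = 1) ∨ ∃ (K : Type u) (_ : Group K) (_ : Finite K), IsSimpleGroup K ∧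
        (¬ ∀ x y : K, x * y = y * x) ∧ Nat.card K = s ∧ p ∣ s ∧ 2 ≤ m ∧ p * m ∣ s ∧ s / (p * m) ≡ 1 [MOD p] ∧
        (a = 1 → c = 1 → Nonempty (H ≃* K)) ∧
        (∀ n : ℕ, n.Coprime a → n.Coprime c → HasOrd H n → HasOrd K n)) := by
  obtain ⟨L, hL, hLn, R, hRn, hRp, hmax⟩ : ∃ L : Subgroup H, L = normalClosure (P : Set H) ∧ L.Normal ∧
      ∃ R : Subgroup L, R.Normal ∧ ¬ p ∣ Nat.card R ∧
      ∀ N : Subgroup L, N.Normal → R ≤ N → N = R ∨ N = ⊤ :=
    ⟨_, rfl, Subgroup.normalClosure_normal, exists_simple hP hp2⟩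
  have hPL : P ≤ L := by rw [hL]; exact Subgroup.subset_normalClosure
  have hcard : Nat.card (P.subgroupOf L) = p := by
    rw [Nat.card_congr (Subgroup.subgroupOfEquivOfLe hPL).toEquiv, hP]
  have hLp2 : ¬ p ^ 2 ∣ Nat.card L := fun h => hp2 (h.trans (Subgroup.card_subgroup_dvd_card L))
  have hpL : p ∣ Nat.card L := by rw [← hcard]; exact Subgroup.card_subgroup_dvd_card _
  have hLRK : Nat.card L = Nat.card (L ⧸ R) * Nat.card R := Subgroup.card_eq_card_quotient_mul_card_subgroup R
  have hpK : p ∣ Nat.card (L ⧸ R) := by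
    rw [hLRK] at hpL
    exact (hp.out.dvd_mul.1 hpL).resolve_right hRp
  have hKp2 : ¬ p ^ 2 ∣ Nat.card (L ⧸ R) := fun h => hLp2 (by rw [hLRK]; exact h.mul_right _)
  have hnt : Nontrivial (L ⧸ R) := by
    by_contra hcon
    rw [not_nontrivial_iff_subsingleton] at hcon
    rw [Nat.card_of_subsingleton (1 : L ⧸ R)] at hpK
    exact hp.out.one_lt.ne' (Nat.dvd_one.1 hpK)
  have hsimple : IsSimpleGroup (L ⧸ R) := by
    refine ⟨fun N hN => ?_⟩
    have h1 : R ≤ N.comap (QuotientGroup.mk' R) := by
      intro x hx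
      rw [Subgroup.mem_comap, QuotientGroup.mk'_apply, (QuotientGroup.eq_one_iff x).2 hx]
      exact N.one_mem
    have h2 : N = (N.comap (QuotientGroup.mk' R)).map (QuotientGroup.mk' R) :=
      (Subgroup.map_comap_eq_self_of_surjective (QuotientGroup.mk'_surjective R) N).symm
    rcases hmax _ (hN.comap _) h1 with h | h
    · left
      rw [h2, h]
      rw [eq_bot_iff]
      rintro _ ⟨x, hx, rfl⟩
      exact (QuotientGroup.eq_one_iff x).2 hx
    · right
      rw [h2, h]
      exact Subgroup.map_top_of_surjective _ (QuotientGroup.mk'_surjective R)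
  have hmapcard : Nat.card ((P.subgroupOf L).map (QuotientGroup.mk' R)) = p := by
    have h1 : Nat.card ((P.subgroupOf L).map (QuotientGroup.mk' R)) ∣ p := by
      have := Subgroup.card_map_dvd (P.subgroupOf L) (QuotientGroup.mk' R)
      rwa [hcard] at this
    rcases (Nat.dvd_prime hp.out).1 h1 with h | h
    · exfalso
      have h2 : (P.subgroupOf L).map (QuotientGroup.mk' R) = ⊥ := Subgroup.eq_bot_of_card_eq _ h
      rw [Subgroup.map_eq_bot_iff, QuotientGroup.ker_mk'] at h2
      apply hRp
      rw [← hcard]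
      exact Subgroup.card_dvd_of_le h2
    · exact h
  have hN1 := card_normalizer_frattini hPL hP hp2
  have hN2 := card_normalizer (R := R) hcard hRp
  set D := Nat.card (R ⊓ normalizer ((P.subgroupOf L : Subgroup L) : Set L) : Subgroup L) with hD
  have hDC : D ∣ Nat.card (centralizer (P : Set H)) := by
    have h1 : (R ⊓ normalizer ((P.subgroupOf L : Subgroup L) : Set L) : Subgroup L).map L.subtype ≤
        centralizer (P : Set H) := by
      rintro _ ⟨x, hx, rfl⟩
      rw [Subgroup.mem_centralizer_iff]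
      intro y hy
      have h2 := comm_of_mem hcard hRp hx.1 hx.2 (y := ⟨y, hPL hy⟩) hy
      exact (congrArg Subtype.val h2).symm
    have h2 := Subgroup.card_dvd_of_le h1
    rwa [Nat.card_congr (Subgroup.equivMapOfInjective _ L.subtype L.subtype_injective).toEquiv.symm] at h2
  have hHc : Nat.card H = Nat.card R * Nat.card (L ⧸ R) * L.index := by
    rw [← Subgroup.card_mul_index L, hLRK, mul_comm (Nat.card (L ⧸ R))]
  by_cases hab : ∀ x y : L ⧸ R, x * y = y * x
  · refine ⟨Nat.card R, Nat.card (L ⧸ R), L.index, 1, D, hHc, hRp, ?_, hDC, fun r hr => exists_pow hcard hRp r hr,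
      Or.inl ⟨?_, rfl⟩⟩
    · rw [hN1, hN2, mul_one, ← mul_assoc]
      congr 1
      have h3 : normalizer (((P.subgroupOf L).map (QuotientGroup.mk' R) : Subgroup (L ⧸ R)) : Set (L ⧸ R)) = ⊤ := by
        rw [eq_top_iff]
        intro x _
        rw [Subgroup.mem_normalizer_iff]
        intro y
        rw [hab x y, mul_inv_cancel_right]
      have h4 : (P.subgroupOf L).map (QuotientGroup.mk' R) = ⊤ := by
        have : ((P.subgroupOf L).map (QuotientGroup.mk' R)).Normal := ⟨fun n hn g => by
          rw [hab g n, mul_inv_cancel_right]; exact hn⟩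
        rcases hsimple.eq_bot_or_eq_top_of_normal _ this with h | h
        · rw [h, Subgroup.card_bot] at hmapcard
          exact absurd hmapcard hp.out.one_lt.ne
        · exact h
      rw [h3, ← h4]
      exact hmapcard
    · have h4 : (P.subgroupOf L).map (QuotientGroup.mk' R) = ⊤ := by
        have : ((P.subgroupOf L).map (QuotientGroup.mk' R)).Normal := ⟨fun n hn g => by
          rw [hab g n, mul_inv_cancel_right]; exact hn⟩
        rcases hsimple.eq_bot_or_eq_top_of_normal _ this with h | h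
        · rw [h, Subgroup.card_bot] at hmapcard
          exact absurd hmapcard hp.out.one_lt.ne
        · exact h
      rw [h4, Subgroup.card_top] at hmapcard
      exact hmapcard
  · obtain ⟨m, hm, hm2, hmd, hmm⟩ := two_le_normalizer hab hmapcard hKp2
    refine ⟨Nat.card R, Nat.card (L ⧸ R), L.index, m, D, hHc, hRp, ?_, hDC,
      fun r hr => exists_pow hcard hRp r hr, Or.inr ⟨L ⧸ R, inferInstance, inferInstance, hsimple, hab, rfl, hpK, hm2,
        hmd, hmm, fun ha hc => ?_, fun n hna hnc hn => ?_⟩⟩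
    · rw [hN1, hN2, ← mul_assoc, hm]
    · have hR1 : R = ⊥ := Subgroup.eq_bot_of_card_eq _ ha
      have hL1 : L = ⊤ := Subgroup.index_eq_one.1 hc
      subst hR1
      exact ⟨((QuotientGroup.quotientBot).trans ((MulEquiv.subgroupCongr hL1).trans Subgroup.topEquiv)).symm⟩
    · have h6 : HasOrd L n := hn.subgroup_of_coprime L hnc
      refine h6.map_of_coprime (QuotientGroup.mk' R) ?_
      rw [QuotientGroup.ker_mk']
      exact hna

end A

/-- a group of order `h` whose possible decompositions have simple sections of orders in `sl`, the remaining factor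
being prime to `n`. -/
def okS (p k M : ℕ) (ps tbl sl : List ℕ) (h n : ℕ) : Bool :=
  (List.range (M + 1)).all fun c => (p :: tbl).all fun s => (List.range (k + 1)).all fun D =>
    !(pass p k M ps h c s D) || (sl.contains s && Nat.beq (Nat.gcd n (h / s)) 1)


variable {T : Type u} [Group T]

theorem exists_simple_of {data : List (ℕ × ℕ × ℕ)} {ps tbl : List ℕ} (D : Data T data ps tbl) (H : Subgroup T)
    {p k M h n : ℕ} {sl : List ℕ} (hx : (p, k, M) ∈ data) (hh : Nat.card H = h) (hpH : h % p = 0) (hp : p ∉ sl)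
    (hchk : okS p k M ps tbl sl h n = true) (hn : ∃ x ∈ H, orderOf x = n) :
    ∃ (K : Type u) (_ : Group K) (_ : Finite K), IsSimpleGroup K ∧ (¬ ∀ x y : K, x * y = y * x) ∧
      Nat.card K ∈ sl ∧ HasOrd K n := by
  have hfin := D.fin
  have hnH : HasOrd H n := by
    obtain ⟨x, hxH, hxo⟩ := hn
    exact ⟨⟨x, hxH⟩, by rw [Subgroup.orderOf_mk]; exact hxo⟩
  subst hh
  -- the numerical part, for the decomposition of `exists_struct'`
  obtain ⟨hpp, hp2, hk0, hk, hM0⟩ := D.prime _ hx
  have hcent := D.cent _ hx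
  simp only at hpp hp2 hk0 hk hM0 hcent
  have hfp : Fact p.Prime := ⟨hpp⟩
  have hpH' : p ∣ Nat.card H := Nat.dvd_of_mod_eq_zero hpH
  obtain ⟨x, hx1⟩ := exists_prime_orderOf_dvd_card' p hpH'
  have hP : Nat.card (zpowers x) = p := by rw [Nat.card_zpowers, hx1]
  have hHT : Nat.card H ∣ Nat.card T := Subgroup.card_subgroup_dvd_card H
  have hpH2 : ¬ p ^ 2 ∣ Nat.card H := fun h => hp2 (h.trans hHT)
  obtain ⟨a, s, c, m, D', h1, h2, h3, h4, h5, h6⟩ := exists_struct' hP hpH2
  have hHpos : 0 < Nat.card H := Nat.card_pos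
  have ha0 : a ≠ 0 := by rintro rfl; simp at h1; omega
  have hs0 : s ≠ 0 := by rintro rfl; simp at h1; omega
  have hc0 : c ≠ 0 := by rintro rfl; simp at h1; omega
  have hPT : Nat.card ((zpowers x).map H.subtype) = p := by
    rw [← hP]
    exact (Nat.card_congr ((zpowers x).equivMapOfInjective _ H.subtype_injective).toEquiv).symm
  obtain ⟨hC, hN⟩ := hcent _ hPT
  have hcH : Nat.card (centralizer ((zpowers x : Subgroup H) : Set H)) ∣
      Nat.card (centralizer (((zpowers x).map H.subtype : Subgroup T) : Set T)) := by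
    have hle : (centralizer ((zpowers x : Subgroup H) : Set H)).map H.subtype ≤
        centralizer (((zpowers x).map H.subtype : Subgroup T) : Set T) := by
      rintro _ ⟨y, hy, rfl⟩
      rw [Subgroup.mem_centralizer_iff]
      rintro _ ⟨z, hz, rfl⟩
      exact congrArg Subtype.val (Subgroup.mem_centralizer_iff.1 hy z hz)
    have h7 := Subgroup.card_dvd_of_le hle
    rwa [Nat.card_congr (Subgroup.equivMapOfInjective _ H.subtype H.subtype_injective).toEquiv.symm] at h7
  have hnH' : Nat.card (normalizer ((zpowers x : Subgroup H) : Set H)) ∣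
      Nat.card (normalizer (((zpowers x).map H.subtype : Subgroup T) : Set T)) := by
    have hle : (normalizer ((zpowers x : Subgroup H) : Set H)).map H.subtype ≤
        normalizer (((zpowers x).map H.subtype : Subgroup T) : Set T) := by
      have h8 := Subgroup.le_normalizer_map (H := zpowers x) H.subtype
      exact h8
    have h7 := Subgroup.card_dvd_of_le hle
    rwa [Nat.card_congr (Subgroup.equivMapOfInjective _ H.subtype H.subtype_injective).toEquiv.symm] at h7
  have hDk : D' ∣ k := by
    have h8 : D' ∣ p * k := (h4.trans hcH).trans hC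
    have h9 : Nat.Coprime D' p := by
      rw [Nat.coprime_comm, hpp.coprime_iff_not_dvd]
      intro hpD
      have h10 : p ^ 2 ∣ Nat.card H := by
        have h11 : p ^ 2 ∣ c * D' * (p * m) := by
          obtain ⟨e, he⟩ := hpD
          exact ⟨c * e * m, by rw [he]; ring⟩
        rw [← h3] at h11
        exact h11.trans (Subgroup.card_subgroup_dvd_card _)
      exact hpH2 h10
    exact h9.dvd_of_dvd_mul_left h8
  have hcDm : c * D' * m ∣ M := by
    have h8 : c * D' * (p * m) ∣ p * M := by rw [← h3]; exact hnH'.trans hN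
    have h9 : p * (c * D' * m) ∣ p * M := by
      have : c * D' * (p * m) = p * (c * D' * m) := by ring
      rwa [this] at h8
    exact Nat.dvd_of_mul_dvd_mul_left hpp.pos h9
  have hD0 : D' ≠ 0 := by rintro rfl; simp at hDk; omega
  have hm0 : m ≠ 0 := by
    rintro rfl
    simp at hcDm
    omega
  have hcD : c * D' ∣ M := (Dvd.intro m rfl).trans hcDm
  have hcM : c ∣ M := (Dvd.intro D' rfl).trans hcD
  have hDM : D' ≤ k := Nat.le_of_dvd hk0 hDk
  have hcle : c ≤ M := Nat.le_of_dvd hM0 hcM
  have hmle : m ≤ M := Nat.le_of_dvd hM0 ((Dvd.intro_left (c * D') rfl).trans hcDm)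
  have e1 : Nat.card H / c = a * s := by rw [h1]; exact Nat.mul_div_cancel _ (Nat.pos_of_ne_zero hc0)
  have e2 : Nat.card H / c / s = a := by rw [e1]; exact Nat.mul_div_cancel _ (Nat.pos_of_ne_zero hs0)
  have e3 : Nat.card H / s = a * c := by
    rw [h1, mul_right_comm]; exact Nat.mul_div_cancel _ (Nat.pos_of_ne_zero hs0)
  have halt : a < 2 ^ 80 := by
    have h8 : a ≤ Nat.card T := Nat.le_of_dvd Nat.card_pos
      ((Dvd.intro (s * c) (by rw [h1]; ring)).trans hHT)
    exact lt_of_le_of_lt h8 D.lt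
  have hsp : p ∣ s := by
    rcases h6 with ⟨rfl, -⟩ | ⟨K, _, _, _, _, _, h, _⟩
    · exact dvd_rfl
    · exact h
  have hsmem : s ∈ p :: tbl := by
    rcases h6 with ⟨rfl, -⟩ | ⟨K, _, _, hK, hna, hKs, _⟩
    · exact List.mem_cons_self
    · refine List.mem_cons_of_mem _ ?_
      rw [← hKs]
      refine D.tbl K hK hna ?_
      rw [hKs]
      exact (Dvd.intro (a * c) (by rw [h1]; ring)).trans hHT
  have hpass : pass p k M ps (Nat.card H) c s D' = true := by
    unfold H251.Small.pass
    refine bandI (by rw [Nat.blt_eq]; omega) (bandI (beqI (Nat.mod_eq_zero_of_dvd hcM))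
      (bandI (beqI (Nat.mod_eq_zero_of_dvd ⟨a * s, by rw [h1]; ring⟩)) ?_))
    refine bandI (beqI (Nat.mod_eq_zero_of_dvd hsp)) (bandI (beqI ?_) ?_)
    · rw [e1]; exact Nat.mul_mod_left _ _
    refine bandI (by rw [Nat.blt_eq]; omega) (bandI (beqI (Nat.mod_eq_zero_of_dvd hDk))
      (bandI (beqI (Nat.mod_eq_zero_of_dvd hcD)) ?_))
    rw [e2]
    refine bandI ?_ (bandI ?_ ?_)
    · have : a % p ≠ 0 := fun h => h2 (Nat.dvd_of_mod_eq_zero h)
      simpa using this
    · rw [List.all_eq_true]
      intro r hr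
      obtain ⟨j, hj1, hj2⟩ := h5 r (D.ps r hr)
      have hr1 := D.ps r hr
      unfold okr
      simp only
      rw [pp_eq hr1 80 a ha0 halt, List.any_eq_true]
      refine ⟨j, List.mem_range.2 ?_, bandI (beqI (Nat.mod_eq_zero_of_dvd hj1)) (beqI hj2)⟩
      by_contra hcon
      push Not at hcon
      have h9 : 2 ^ 8 ≤ r ^ j :=
        (Nat.pow_le_pow_left hr1.two_le 8).trans (Nat.pow_le_pow_right hr1.pos hcon)
      have h10 := Nat.le_of_dvd (Nat.pos_of_ne_zero hD0) hj1
      norm_num at h9
      omega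
    · rcases h6 with ⟨rfl, -⟩ | ⟨K, _, _, _, _, _, _, hm2, hmd, hmm, _⟩
      · simp
      · rw [Bool.or_eq_true]
        right
        unfold okm
        rw [List.any_eq_true]
        exact ⟨m, List.mem_range.2 (by omega), bandI (by rw [Nat.ble_eq]; exact hm2)
          (bandI (beqI (Nat.mod_eq_zero_of_dvd hcDm)) (bandI (beqI (Nat.mod_eq_zero_of_dvd hmd)) (beqI hmm)))⟩
  -- the check
  unfold okS at hchk
  rw [List.all_eq_true] at hchk
  have h7 := hchk c (List.mem_range.2 (by omega))
  rw [List.all_eq_true] at h7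
  have h8 := h7 s hsmem
  rw [List.all_eq_true] at h8
  have h9 := h8 D' (List.mem_range.2 (by omega))
  rw [hpass, Bool.not_true, Bool.false_or, Bool.and_eq_true, Nat.beq_eq, List.contains_iff_mem] at h9
  obtain ⟨hs, hg⟩ := h9
  rcases h6 with ⟨rfl, -⟩ | ⟨K, i1, i2, hK, hna, hKs, _, _, _, _, _, htr⟩
  · exact absurd hs hp
  · rw [e3] at hg
    have h10 : n.Coprime (a * c) := hg
    exact ⟨K, i1, i2, hK, hna, by rw [hKs]; exact hs,
      htr n (Nat.Coprime.coprime_mul_right_right h10) (Nat.Coprime.coprime_mul_left_right h10) hnH⟩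

/-- cyclic Sylow `2`-subgroups give a subgroup of index two -/
theorem exists_index_two {M : Type u} [Group M] [Finite M] {g : M} {k : ℕ} (hk : 1 ≤ k) (hg : orderOf g = 2 ^ k)
    (h2 : ¬ 2 ^ (k + 1) ∣ Nat.card M) : ∃ N : Subgroup M, N.index = 2 := by
  have hf : Fact (Nat.Prime 2) := ⟨Nat.prime_two⟩
  have h2M : 2 ∣ Nat.card M := by
    have h1 : orderOf g ∣ Nat.card M := orderOf_dvd_natCard g
    rw [hg] at h1
    exact (dvd_pow_self 2 (by omega)).trans h1
  have hmin : (Nat.card M).minFac = 2 := (Nat.minFac_eq_two_iff _).2 h2M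
  have hz : IsPGroup 2 (zpowers g) := IsPGroup.of_card (n := k) (by rw [Nat.card_zpowers, hg])
  obtain ⟨P, hP⟩ := hz.exists_le_sylow
  have hPc : (P : Subgroup M) = zpowers g := by
    refine (Subgroup.eq_of_le_of_card_ge hP ?_).symm
    obtain ⟨j, hj⟩ := IsPGroup.iff_card.1 P.2
    have h3 : 2 ^ j ∣ Nat.card M := by
      rw [← hj]; exact Subgroup.card_subgroup_dvd_card _
    have h4 : j ≤ k := by
      by_contra h4
      exact h2 ((pow_dvd_pow 2 (by omega)).trans h3)
    rw [Nat.card_zpowers, hg, show Nat.card (P : Subgroup M) = 2 ^ j from hj]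
    exact Nat.pow_le_pow_right (by norm_num) h4
  have hcyc : IsCyclic (P : Subgroup M) := by
    rw [hPc]; infer_instance
  have hcomp := IsCyclic.isComplement' hmin hcyc
  set K := (MonoidHom.transferSylow P (hcyc.normalizer_le_centralizer hmin)).ker with hK
  have hidx : Nat.card (M ⧸ K) = 2 ^ k := by
    have h3 : K.index = Nat.card (P : Subgroup M) := hcomp.symm.index_eq_card
    rw [← Subgroup.index_eq_card, h3, hPc, Nat.card_zpowers, hg]
  have hp : IsPGroup 2 (M ⧸ K) := IsPGroup.of_card hidx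
  have hnil : Group.IsNilpotent (M ⧸ K) := hp.isNilpotent
  obtain ⟨N, -, hN⟩ := exists_index_prime (K := M ⧸ K) Nat.prime_two (by rw [hidx]; exact dvd_pow_self 2 (by omega))
  refine ⟨N.comap (QuotientGroup.mk' K), ?_⟩
  rw [Subgroup.index_comap_of_surjective _ (QuotientGroup.mk'_surjective K), hN]

/-- no elements of order `2 ^ k` if `2 ^ k` is the exact power of two dividing `|M|` and `|M| / 2` is not feasible -/
theorem no_order_two {data : List (ℕ × ℕ × ℕ)} {ps tbl : List ℕ} (D : Data T data ps tbl) {l : List (ℕ × ℕ)}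
    {prs : List ℕ} (hv : OrdDiv.valid l (Nat.card T) = true) (M : Subgroup T) {k h : ℕ} (hk : 1 ≤ k)
    (hh : Nat.card M = h) (h2 : ¬ 2 ^ (k + 1) ∣ h) (hprs : ∀ r ∈ prs, r ∣ h / 2)
    (hs : h / 2 ∉ surv data ps tbl l prs) : ∀ m ∈ M, orderOf m ≠ 2 ^ k := by
  have hfin := D.fin
  intro m hm ho
  subst hh
  obtain ⟨N, hN⟩ := exists_index_two (g := (⟨m, hm⟩ : M)) hk (by rw [Subgroup.orderOf_mk]; exact ho) h2
  have h3 : Nat.card (N.map M.subtype) = Nat.card M / 2 := by
    rw [Nat.card_congr (Subgroup.equivMapOfInjective _ M.subtype M.subtype_injective).toEquiv.symm]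
    have h4 := N.card_mul_index
    rw [hN] at h4
    omega
  have h4 := mem_surv D hv (N.map M.subtype) (prs := prs) (fun r hr => by rw [h3]; exact hprs r hr)
  rw [h3] at h4
  exact hs h4

/-- orders of subgroups with all primes -/
theorem pgap_or_mem {data : List (ℕ × ℕ × ℕ)} {ps tbl : List ℕ} (D : Data T data ps tbl) {l : List (ℕ × ℕ)}
    {prs sl : List ℕ} {N : ℕ} (hN : Nat.card T = N) (hv : OrdDiv.valid l N = true) (hpr : ∀ r ∈ prs, r.Prime ∧ r ∣ N)
    (hs : surv data ps tbl l prs = sl) (M : Subgroup T) : PGap T M ∨ Nat.card M ∈ sl := by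
  subst hN
  by_cases hall : ∀ r ∈ prs, r ∣ Nat.card M
  · right
    rw [← hs]
    exact mem_surv D hv M hall
  · left
    push Not at hall
    obtain ⟨r, hr, hrM⟩ := hall
    exact ⟨r, (hpr r hr).1, (hpr r hr).2, hrM⟩

end Cfsg.Agent.H834.Sax
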