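import Cfsg.Agent.H834.Sax.Nine
import Cfsg.Agent.H304.PslRes_m3
import Cfsg.Agent.H809.SelfCentUni
import Cfsg.Agent.H809.SelfCentPSU
import Cfsg.Agent.H359.SpSix
import Cfsg.Agent.Involutions.IndexFive
import Cfsg.Agent.S0243
import Cfsg.Agent.S0270
import Cfsg.Agent.H180.MElM11
import Cfsg.Agent.H180.MElM12_m3
import Cfsg.Agent.H180.MElBig
import Cfsg.Agent.H938.Sax.Base
import Cfsg.Agent.Prune
set_option linter.all false

-- part: H834/Sax/Lin
section
set_option linter.all false
open scoped Cfsg.Agent.FastGrp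

/-!
# `OGMax` for `L₆(2)` and `Sp₆(2)` (helper834)

* `pgap_l62` : a proper subgroup of `L₆(2)` misses a prime or has order `9999360` or `319979520`;
* `pgap_sp62` : a proper subgroup of `Sp₆(2)` misses a prime or has order in `[2520, 5040, 20160, 40320, 161280]`;
* `ogMax_l62`, `ogMax_sp62`.
-/

set_option autoImplicit false

namespace Cfsg.Agent.H834.Sax

open Subgroup Cfsg Matrix Cfsg.Agent.H970.StabNum Cfsg.Agent.H251.Small Cfsg.Agent.H938.Sax
open Cfsg.Agent.OrdDiv Cfsg.Agent.H58.Rec

variable {F : Type} [Field F] [Fintype F]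

def l62 : List (ℕ × ℕ) := [(2, 15), (3, 4), (5, 1), (7, 2), (31, 1)]
def sp62 : List (ℕ × ℕ) := [(2, 9), (3, 4), (5, 1), (7, 1)]

theorem card_l62 (hF : Fintype.card F = 2) :
    Nat.card (Matrix.ProjectiveSpecialLinearGroup (Fin 6) F) = 20158709760 := by
  have h := Cfsg.Agent.S0243.result (F := F) hF 6 (by norm_num)
  have e1 : ∏ i : Fin 6, (2 ^ 6 - 2 ^ (i : ℕ)) = 20158709760 := by rfl
  rw [e1] at h
  norm_num at h
  exact h

theorem card_sp62 (hF : Fintype.card F = 2) : Nat.card (PSp 3 F) = 1451520 := by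
  have h := H732.SelfCent.card_psp hF (n := 3) (by norm_num)
  simp only [Finset.prod_range_succ, Finset.prod_range_zero] at h
  norm_num at h
  omega

theorem nine_l62 (hF : Fintype.card F = 2) : ∃ g : Matrix.ProjectiveSpecialLinearGroup (Fin 6) F, orderOf g = 9 := by
  obtain ⟨g, h9, h3⟩ := H304.L62.exists_nine hF
  have hinj := H304.L62.pr_injective (n := 6) hF
  have hf : Fact (Nat.Prime 3) := ⟨Nat.prime_three⟩
  refine ⟨H304.PslT.pr 6 F g, orderOf_eq_prime_pow (p := 3) (n := 1) ?_ ?_⟩
  · intro h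
    rw [pow_one, ← map_pow] at h
    exact h3 (hinj (by rw [h, map_one]))
  · rw [← map_pow, show 3 ^ (1 + 1) = 9 by norm_num, h9, map_one]

theorem nine_sp62 (hF : Fintype.card F = 2) : ∃ g : PSp 3 F, orderOf g = 9 := by
  obtain ⟨eS⟩ := Cfsg.Agent.StandardComponent.SpTwoAut.exists_equiv hF
  obtain ⟨g, hg⟩ := H359.SpSix.hall 9 (by decide)
  exact ⟨eS.symm g, by rw [MulEquiv.orderOf_eq, hg]⟩

variable (OT : OrderTable.{0}) (hS : ∀ (X : Type) [Group X] [Finite X] [IsSimpleGroup X], Cfsg.IsKnownSimple' X)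

include OT hS

theorem data_l62 (hF : Fintype.card F = 2) :
    H970.StabNum.Data (Matrix.ProjectiveSpecialLinearGroup (Fin 6) F) [(31, 1, 5)] [2, 3, 5, 7]
      ((cands l62 20158709760).map ordN) := by
  have hcard : Nat.card (Matrix.ProjectiveSpecialLinearGroup (Fin 6) F) = 20158709760 := card_l62 hF
  have hfin : Finite (Matrix.ProjectiveSpecialLinearGroup (Fin 6) F) :=
    Nat.finite_of_card_ne_zero (by rw [hcard]; norm_num)
  refine H970.TwoSpor.mk_data OT hS hcard (l := l62) (by decide +kernel)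
    (by decide +kernel) ?_ ?_ (by decide +kernel) ?_
  · intro x hx
    simp only [List.mem_cons, List.not_mem_nil, or_false] at hx
    subst hx
    norm_num
  · intro r hr
    simp only [List.mem_cons, List.not_mem_nil, or_false] at hr
    rcases hr with rfl | rfl | rfl | rfl <;> norm_num
  · intro x hx P hP
    simp only [List.mem_cons, List.not_mem_nil, or_false] at hx
    subst hx
    refine cent_norm (by norm_num) (by rw [hcard]; norm_num)
      (Cfsg.Agent.H809.SelfCent.psl_selfcent 6 2 31 (by decide) F hF) ?_ P hP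
    intro m hm _ hmod
    rw [hcard] at hmod
    have h1 : m ∈ Nat.divisors 30 := Nat.mem_divisors.2 ⟨hm, by norm_num⟩
    rw [show Nat.divisors 30 = {1, 2, 3, 5, 6, 10, 15, 30} by decide] at h1
    simp only [Finset.mem_insert, Finset.mem_singleton] at h1
    rcases h1 with rfl | rfl | rfl | rfl | rfl | rfl | rfl | rfl
    all_goals first | (norm_num; done) | (exfalso; norm_num at hmod; done)

theorem data_sp62 (hF : Fintype.card F = 2) :
    H970.StabNum.Data (PSp 3 F) [(7, 1, 6)] [2, 3, 5] ((cands sp62 1451520).map ordN) := by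
  have hcard := card_sp62 hF
  have hfin : Finite (PSp 3 F) := Nat.finite_of_card_ne_zero (by rw [hcard]; norm_num)
  refine H970.TwoSpor.mk_data OT hS hcard (l := sp62) (by decide +kernel)
    (by decide +kernel) ?_ ?_ (by decide +kernel) ?_
  · intro x hx
    simp only [List.mem_cons, List.not_mem_nil, or_false] at hx
    subst hx
    norm_num
  · intro r hr
    simp only [List.mem_cons, List.not_mem_nil, or_false] at hr
    rcases hr with rfl | rfl | rfl <;> norm_num
  · intro x hx P hP
    simp only [List.mem_cons, List.not_mem_nil, or_false] at hx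
    subst hx
    refine cent_norm (by norm_num) (by rw [hcard]; norm_num)
      (H732.SelfCent.psp_selfcent 3 2 7 (by decide) F hF) ?_ P hP
    intro m hm _ _
    exact hm

/-- A proper subgroup of `L₆(2)` misses a prime or has order `9999360` or `319979520`. -/
theorem pgap_l62 (hF : Fintype.card F = 2) (M : Subgroup (Matrix.ProjectiveSpecialLinearGroup (Fin 6) F))
    (hM : M ≠ ⊤) : PGap (Matrix.ProjectiveSpecialLinearGroup (Fin 6) F) M ∨ Nat.card M = 9999360 ∨
      Nat.card M = 319979520 := by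
  have hcard : Nat.card (Matrix.ProjectiveSpecialLinearGroup (Fin 6) F) = 20158709760 := card_l62 hF
  have hfin : Finite (Matrix.ProjectiveSpecialLinearGroup (Fin 6) F) :=
    Nat.finite_of_card_ne_zero (by rw [hcard]; norm_num)
  have h := pgap_or_mem (data_l62 OT hS hF) (l := l62) (prs := [2, 3, 5, 7, 31])
    (sl := [9999360, 319979520, 20158709760]) hcard (by decide +kernel) (by
      intro r hr
      simp only [List.mem_cons, List.not_mem_nil, or_false] at hr
      rcases hr with rfl | rfl | rfl | rfl | rfl <;> norm_num) (by decide +kernel) M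
  simp only [List.mem_cons, List.not_mem_nil, or_false] at h
  rcases h with h | h | h | h
  · exact Or.inl h
  · exact Or.inr (Or.inl h)
  · exact Or.inr (Or.inr h)
  · exact absurd (Subgroup.eq_top_of_card_eq M (by rw [h, hcard])) hM

/-- A proper subgroup of `Sp₆(2)` misses a prime or has order in `[2520, 5040, 20160, 40320, 161280]`. -/
theorem pgap_sp62 (hF : Fintype.card F = 2) (M : Subgroup (PSp 3 F)) (hM : M ≠ ⊤) :
    PGap (PSp 3 F) M ∨ Nat.card M ∈ [2520, 5040, 20160, 40320, 161280] := by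
  have hcard := card_sp62 hF
  have hfin : Finite (PSp 3 F) := Nat.finite_of_card_ne_zero (by rw [hcard]; norm_num)
  have h := pgap_or_mem (data_sp62 OT hS hF) (l := sp62) (prs := [2, 3, 5, 7])
    (sl := [2520, 5040, 20160, 181440, 40320, 161280, 1451520]) hcard (by decide +kernel) (by
      intro r hr
      simp only [List.mem_cons, List.not_mem_nil, or_false] at hr
      rcases hr with rfl | rfl | rfl | rfl <;> norm_num) (by decide +kernel) M
  have hne : Nat.card M ≠ 1451520 := fun h1 => hM (Subgroup.eq_top_of_card_eq M (by rw [h1, hcard]))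
  have hne2 : Nat.card M ≠ 181440 := by
    intro h1
    have hs : IsSimpleGroup (PSp 3 F) := S0270.result (F := F) 3 (by norm_num) (by norm_num)
    have h2 := M.card_mul_index
    rw [h1, hcard] at h2
    have h3 : M.index = 8 := by omega
    have h4 := Cfsg.Agent.Involutions.IndexFive.card_dvd_factorial_index M hM
    rw [h3, hcard] at h4
    revert h4
    decide
  rcases h with h | h
  · exact Or.inl h
  · right
    simp only [List.mem_cons, List.not_mem_nil, or_false] at h ⊢
    omega

theorem ogMax_l62 (hF : Fintype.card F = 2) : OGMax (Matrix.ProjectiveSpecialLinearGroup (Fin 6) F) := by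
  have hcard : Nat.card (Matrix.ProjectiveSpecialLinearGroup (Fin 6) F) = 20158709760 := card_l62 hF
  have hfin : Finite (Matrix.ProjectiveSpecialLinearGroup (Fin 6) F) :=
    Nat.finite_of_card_ne_zero (by rw [hcard]; norm_num)
  intro M hM
  have key : ∀ h : ℕ, Nat.card M = h → h % 31 = 0 →
      okS 31 1 5 [2, 3, 5, 7] ((cands l62 20158709760).map ordN) [9999360] h 9 = true →
      OrdGap (Matrix.ProjectiveSpecialLinearGroup (Fin 6) F) M := by
    intro h hh h5 hok
    obtain ⟨g, hg⟩ := nine_l62 hF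
    refine ordGap_of hg fun m hm ho => ?_
    obtain ⟨K, _, _, hK, hna, hc, h9K⟩ := exists_simple_of (data_l62 OT hS hF) M (by simp) hh h5 (by decide) hok
      ⟨m, hm, ho⟩
    rw [List.mem_singleton] at hc
    exact no_nine_9999360 OT hS hK hna hc h9K
  rcases pgap_l62 OT hS hF M hM.1 with h | h | h
  · exact h.ordGap
  · exact key _ h (by norm_num) (by decide +kernel)
  · exact key _ h (by norm_num) (by decide +kernel)

theorem ogMax_sp62 (hF : Fintype.card F = 2) : OGMax (PSp 3 F) := by
  have hcard := card_sp62 hF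
  have hfin : Finite (PSp 3 F) := Nat.finite_of_card_ne_zero (by rw [hcard]; norm_num)
  intro M hM
  have key : ∀ h : ℕ, Nat.card M = h → h % 7 = 0 →
      okS 7 1 6 [2, 3, 5] ((cands sp62 1451520).map ordN) [2520, 20160] h 9 = true → OrdGap (PSp 3 F) M := by
    intro h hh h5 hok
    obtain ⟨g, hg⟩ := nine_sp62 hF
    refine ordGap_of hg fun m hm ho => ?_
    obtain ⟨K, _, _, hK, hna, hc, h9K⟩ := exists_simple_of (data_sp62 OT hS hF) M (by simp) hh h5 (by decide) hok
      ⟨m, hm, ho⟩
    simp only [List.mem_cons, List.not_mem_nil, or_false] at hc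
    rcases hc with hc | hc
    · exact no_nine_2520 OT hS hK hna hc h9K
    · exact no_nine_20160 OT hS hK hna hc h9K
  rcases pgap_sp62 OT hS hF M hM.1 with h | h
  · exact h.ordGap
  · simp only [List.mem_cons, List.not_mem_nil, or_false] at h
    rcases h with h | h | h | h | h
    · exact key _ h (by norm_num) (by decide +kernel)
    · exact key _ h (by norm_num) (by decide +kernel)
    · exact key _ h (by norm_num) (by decide +kernel)
    · exact key _ h (by norm_num) (by decide +kernel)
    · exact key _ h (by norm_num) (by decide +kernel)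

end Cfsg.Agent.H834.Sax
end

-- part: H604/Sax/Mathieu
section
set_option linter.all false
open scoped Cfsg.Agent.FastGrp

/-!
# `OGMax` for the Mathieu groups (helper604, task 1613, for S2498 and S2528)
-/

set_option autoImplicit false

namespace Cfsg.Agent.H604.Sax.Mathieu

open Cfsg Equiv.Perm
open Cfsg.Agent.H866.InvolType (fx)
open Cfsg.Agent.H938.Sax
open Cfsg.Agent.H180.MEl
open Cfsg.Agent.J4Type.CocodeMask (mk isTab_mk)
open Cfsg.Agent.SporadicA.GolayPerm (isPerm isAut)
open Cfsg.Agent.H180.KMathieu (orderOf_tab ordOk mk_apply idx_zero)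
open Cfsg.Agent.SporadicStructure.M11InvPerms (dd dd_mem)
open Cfsg.Agent.MTwelveType.SylowModel (squareDodecad_eq card_M12)

/-- the missing primes: if no order is missing, all primes divide `|R|` -/
theorem dvd_map {L : Subgroup (Equiv.Perm GolayPt)} {R : Subgroup L} (hn : ¬ OrdGap L R) {p : ℕ}
    (hp : p.Prime) (h : p ∣ Nat.card L) : p ∣ Nat.card (R.map L.subtype) := by
  rw [card_map_subtype]
  exact prime_dvd_of_not_ordGap hn hp h

/-! ### `M₂₂`, `M₂₃`: a prime is missing -/

theorem og_M22 {R : Subgroup Spor.M22} (hR : R ≠ ⊤) : OrdGap Spor.M22 R := by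
  by_contra hn
  apply hR
  have hc := Cfsg.Agent.SporadicA.MathieuRecog.card_M22
  apply eq_top_of_card
  rw [← card_map_subtype, hc]
  refine m22 (T := {none, some 0}) ?_ (by decide) ?_ (dvd_map hn (by norm_num) (by rw [hc]; norm_num))
    (dvd_map hn (by norm_num) (by rw [hc]; norm_num)) (dvd_map hn (by norm_num) (by rw [hc]; norm_num))
  · rintro _ ⟨g, -, rfl⟩
    exact g.2.1.1
  · rintro _ ⟨g, -, rfl⟩ t ht
    rw [Finset.mem_insert, Finset.mem_singleton] at ht
    rcases ht with rfl | rfl
    · exact g.2.1.2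
    · exact g.2.2

theorem og_M23 {R : Subgroup Spor.M23} (hR : R ≠ ⊤) : OrdGap Spor.M23 R := by
  by_contra hn
  apply hR
  have hc := Cfsg.Agent.SporadicA.MathieuRecog.card_M23
  apply eq_top_of_card
  rw [← card_map_subtype, hc]
  refine m23 (T := {none}) ?_ (by decide) ?_ (dvd_map hn (by norm_num) (by rw [hc]; norm_num))
    (dvd_map hn (by norm_num) (by rw [hc]; norm_num)) (dvd_map hn (by norm_num) (by rw [hc]; norm_num))
    (dvd_map hn (by norm_num) (by rw [hc]; norm_num))
  · rintro _ ⟨g, -, rfl⟩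
    exact g.2.1
  · rintro _ ⟨g, -, rfl⟩ t ht
    rw [Finset.mem_singleton] at ht
    rw [ht]
    exact g.2.2

/-! ### `M₂₄`: order 10 -/

/-- the involution in an element of order 10 has no fixed point -/
theorem fx_ten {x : Equiv.Perm GolayPt} (hx : x ∈ M24) (ox : orderOf x = 10) : fx (x ^ 5) = 0 := by
  have o2 : orderOf (x ^ 5) = 2 := by
    rw [orderOf_pow_of_dvd (by norm_num) (by rw [ox]; norm_num), ox]
  have o5 : orderOf (x ^ 2) = 5 := by
    rw [orderOf_pow_of_dvd (by norm_num) (by rw [ox]; norm_num), ox]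
  exact fx_of_five (M24.pow_mem hx 5) (M24.pow_mem hx 2) o2 o5 ((Commute.refl x).pow_pow 5 2)

theorem no_fix_ten {x : Equiv.Perm GolayPt} (hx : x ∈ M24) (ox : orderOf x = 10) (a : GolayPt) : x a ≠ a := by
  intro h
  apply no_fix (fx_ten hx ox) a
  have : ∀ n : ℕ, (x ^ n) a = a := by
    intro n
    induction n with
    | zero => rfl
    | succ n ih => rw [pow_succ, Equiv.Perm.mul_apply, h, ih]
  exact this 5

theorem og_M24 {R : Subgroup M24} (hR : R ≠ ⊤) : OrdGap M24 R := by
  by_contra hn
  have hc := fact24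
  rcases m24 (X := R.map M24.subtype) (by
      rintro _ ⟨g, -, rfl⟩
      exact g.2) (dvd_map hn (by norm_num) (by rw [hc]; norm_num))
    (dvd_map hn (by norm_num) (by rw [hc]; norm_num)) (dvd_map hn (by norm_num) (by rw [hc]; norm_num))
    (dvd_map hn (by norm_num) (by rw [hc]; norm_num)) with h | ⟨a, ha⟩
  · apply hR
    apply eq_top_of_card
    rw [← card_map_subtype, hc]
    exact h
  · obtain ⟨m, hm, ho⟩ := exists_order_of_not_ordGap hn g10
    rw [orderOf_g10] at ho
    exact no_fix_ten m.2 (by rw [Subgroup.orderOf_coe]; exact ho) a (ha _ (Subgroup.mem_map_of_mem M24.subtype hm))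

/-! ### `M₁₂`: orders 10 and 4 -/

theorem og_M12 {R : Subgroup Spor.M12} (hR : R ≠ ⊤) : OrdGap Spor.M12 R := by
  have := finM12
  by_contra hn
  have hc := card_M12
  set X : Subgroup (Equiv.Perm GolayPt) := R.map Spor.M12.subtype with hXdef
  have hcX : Nat.card X = Nat.card R := card_map_subtype R
  have hX : X ≤ Spor.M12 := by
    rintro _ ⟨g, -, rfl⟩
    exact g.2
  have h5 : 5 ∣ Nat.card X := dvd_map hn (by norm_num) (by rw [hc]; norm_num)
  have h11 : 11 ∣ Nat.card X := dvd_map hn (by norm_num) (by rw [hc]; norm_num)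
  obtain ⟨m, hm, om⟩ := exists_order_of_not_ordGap hn a10
  obtain ⟨n, hnR, on⟩ := exists_order_of_not_ordGap hn a4
  rw [orderOf_a10] at om
  rw [orderOf_a4] at on
  rcases trans_or_fix hX h11 with ⟨a, -, ha⟩ | htr
  · exact no_fix_ten (x := (m : Equiv.Perm GolayPt)) m.2.1 (by rw [Subgroup.orderOf_coe]; exact om) a
      (ha _ (Subgroup.mem_map_of_mem Spor.M12.subtype hm))
  have ho : ∀ a ∈ dd, (orb X a).card = 12 := by
    intro a ha
    rw [htr a ha, card_dd]
  have h0 := card_orb_mul X (some 0)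
  rw [ho _ zero_mem_dd] at h0
  have hS := card_St_M11 hX (dvd_St (by norm_num) h5 (ho _ zero_mem_dd) (by norm_num))
    (dvd_St (by norm_num) h11 (ho _ zero_mem_dd) (by norm_num))
  rcases hS with hS | hS | hS
  · -- 660: the stabilizers have odd order
    rw [hS] at h0
    obtain ⟨a, ha, h1⟩ := sq_fix12 (g := n) (by rw [← on, pow_orderOf_eq_one])
    have h2 := card_orb_mul X a
    rw [ho a ha, ← h0] at h2
    have h3 : ((n ^ 2 : Spor.M12) : Equiv.Perm GolayPt) ∈ St X a :=
      ⟨Subgroup.mem_map_of_mem Spor.M12.subtype (R.pow_mem hnR 2), h1⟩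
    have h4 : 2 ∣ Nat.card (St X a) := by
      have h5 := Subgroup.orderOf_dvd_natCard _ h3
      rwa [Subgroup.orderOf_coe, orderOf_pow_of_dvd (by norm_num) (by rw [on]; norm_num), on] at h5
    omega
  · -- 7920
    rw [hS] at h0
    have hsimp : IsSimpleGroup R := isSimple_of_iso11 (iso11_M12.sub R) (Or.inr (by rw [← hcX, ← h0]))
    have hM : Cfsg.IsM11 R := ⟨hsimp, by rw [← hcX, ← h0]⟩
    have o5 : orderOf ((⟨m, hm⟩ : R) ^ 2) = 5 := by
      rw [orderOf_pow_of_dvd (by norm_num) (by rw [Subgroup.orderOf_mk, om]; norm_num), Subgroup.orderOf_mk, om]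
    have h1 := Cfsg.Agent.SporadicA.M11Facts.card_centralizer_five hM o5
    have h2 : (⟨m, hm⟩ : R) ∈ Subgroup.centralizer ({(⟨m, hm⟩ : R) ^ 2} : Set R) :=
      Subgroup.mem_centralizer_singleton_iff.2 ((Commute.refl (⟨m, hm⟩ : R)).pow_right 2).eq
    have h3 := Subgroup.orderOf_dvd_natCard _ h2
    rw [h1, Subgroup.orderOf_mk, om] at h3
    norm_num at h3
  · rw [hS] at h0
    apply hR
    apply eq_top_of_card
    rw [← hcX, ← h0, card_M12]

/-! ### `M₁₁`: order 8 -/

theorem mem_M11 {P : ℕ} (h : (isPerm P && isAut P) = true)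
    (hd : ((List.range 24).all fun i => !(ddM.testBit i) || ddM.testBit (Cfsg.Agent.SporadicA.GolayPerm.papp P i)) = true)
    (h2 : Cfsg.Agent.SporadicA.GolayPerm.papp P 0 = 0) : (mk P h : Equiv.Perm GolayPt) ∈ Spor.M11 := by
  refine ⟨mk_mem12 h hd, ?_⟩
  show _ ∈ MulAction.stabilizer _ _
  rw [MulAction.mem_stabilizer_iff]
  exact mk_apply P h idx_zero h2

/-- an element of order 8 -/
noncomputable def g8 : Spor.M11 :=
  ⟨mk 902939067841553011850400168704774208 (by decide +kernel),
    mem_M11 (by decide +kernel) (by decide +kernel) (by decide +kernel)⟩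

theorem orderOf_g8 : orderOf g8 = 8 := by
  have := orderOf_tab (isTab_mk 902939067841553011850400168704774208 (by decide +kernel)) (n := 8)
    (by decide +kernel)
  rw [← Subgroup.orderOf_coe] at this
  rw [← Subgroup.orderOf_coe]
  exact this

theorem og_M11 {R : Subgroup Spor.M11} (hR : R ≠ ⊤) : OrdGap Spor.M11 R := by
  have hG := Cfsg.Agent.Cit.Eleven.isM11 (L := Spor.M11) ⟨MulEquiv.refl _⟩
  have hc := hG.2
  have hfin : Finite Spor.M11 := Nat.finite_of_card_ne_zero (by rw [hc]; norm_num)
  by_contra hn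
  have h5 := prime_dvd_of_not_ordGap hn Nat.prime_five (by rw [hc]; norm_num)
  have h11 := prime_dvd_of_not_ordGap hn (p := 11) (by norm_num) (by rw [hc]; norm_num)
  have h8 := dvd_card_of_not_ordGap hn g8
  rw [orderOf_g8] at h8
  rcases card_sub_m11 hG h5 h11 with h | h | h
  · rw [h] at h8; norm_num at h8
  · rw [h] at h8; norm_num at h8
  · exact hR (eq_top_of_card (h.trans hc.symm))

/-- **`M₁₁`** -/
theorem ogMax_m11 {T : Type*} [Group T] (h : Cfsg.Spor.IsoM11 T) : OGMax T := by
  obtain ⟨e⟩ := h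
  exact OGMax.congr e.symm fun M hM => og_M11 hM.1

/-- **`M₁₂`** -/
theorem ogMax_m12 {T : Type*} [Group T] (h : Cfsg.Spor.IsoM12 T) : OGMax T := by
  obtain ⟨e⟩ := h
  exact OGMax.congr e.symm fun M hM => og_M12 hM.1

/-- **`M₂₂`** -/
theorem ogMax_m22 {T : Type*} [Group T] (h : Cfsg.Spor.IsoM22 T) : OGMax T := by
  obtain ⟨e⟩ := h
  exact OGMax.congr e.symm fun M hM => og_M22 hM.1

/-- **`M₂₃`** -/
theorem ogMax_m23 {T : Type*} [Group T] (h : Cfsg.Spor.IsoM23 T) : OGMax T := by
  obtain ⟨e⟩ := h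
  exact OGMax.congr e.symm fun M hM => og_M23 hM.1

/-- **`M₂₄`** -/
theorem ogMax_m24 {T : Type*} [Group T] (h : Cfsg.Spor.IsoM24 T) : OGMax T := by
  obtain ⟨e⟩ := h
  exact OGMax.congr e.symm fun M hM => og_M24 hM.1

end Cfsg.Agent.H604.Sax.Mathieu
end
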