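import Cfsg.Agent.H834.Sax.Tool
import Cfsg.Agent.H455.NoNine
import Cfsg.Agent.H753.SLFiveTwo
import Cfsg.Agent.S0254
import Cfsg.Agent.S0256
import Cfsg.Agent.Prune
set_option linter.all false
prune_inst 0x7f00000000000000000000000000000000000000000000000000000000000000000000000000000000000000000000000000000000000000000000000000000000000000000000000000000000000000003fffffffffffffffffffffffffffbeffbdffffffff
open scoped Cfsg.Agent.FastGrp

/-!
# No elements of order 9 in the simple groups of order 360, 2520, 20160, 9999360 (helper834)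
-/

set_option autoImplicit false

namespace Cfsg.Agent.H834.Sax

open Subgroup Cfsg Cfsg.Agent.H970.StabNum Cfsg.Agent.H251.Small Cfsg.Agent.H938.Sax
open Cfsg.Agent.OrdDiv Cfsg.Agent.H58.Rec

theorem alt_no_nine {n : ℕ} (h : ((H380.AltSpec.T n n).contains (9, true)) = false) :
    ¬ HasOrd (alternatingGroup (Fin n)) 9 := by
  rintro ⟨g, hg⟩
  have h1 := H380.AltSpec.orderOf_mem_T g
  rw [hg] at h1
  have h2 := List.contains_iff_mem.2 h1
  rw [h] at h2
  exact absurd h2 (by decide)

theorem a6 : ¬ HasOrd (alternatingGroup (Fin 6)) 9 := alt_no_nine (by decide +kernel)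
theorem a7 : ¬ HasOrd (alternatingGroup (Fin 7)) 9 := alt_no_nine (by decide +kernel)
theorem a8 : ¬ HasOrd (alternatingGroup (Fin 8)) 9 := alt_no_nine (by decide +kernel)

theorem psl52 {F : Type} [Field F] [Fintype F] (hF : Fintype.card F = 2) :
    ¬ HasOrd (Matrix.ProjectiveSpecialLinearGroup (Fin 5) F) 9 := by
  intro h
  obtain ⟨g, hg⟩ := h.congr (H753.FiveTwo.pslEquiv hF)
  have h1 := H753.FiveTwo.no_nine g (by rw [← hg, pow_orderOf_eq_one])
  have h2 := orderOf_dvd_of_pow_eq_one h1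
  rw [hg] at h2
  norm_num at h2

variable (OT : OrderTable.{0}) (hS : ∀ (X : Type) [Group X] [Finite X] [IsSimpleGroup X], Cfsg.IsKnownSimple' X)

include OT hS

theorem no_nine_360 {K : Type} [Group K] [Finite K] (hK : IsSimpleGroup K) (hna : ¬ ∀ x y : K, x * y = y * x)
    (hc : Nat.card K = 360) : ¬ HasOrd K 9 := by
  obtain ⟨g, hg, hr⟩ := exists_real_filter OT (hS K) hna (l := [(2, 3), (3, 2), (5, 1)])
    (N := 360) (by decide +kernel) (by rw [hc]) (fun o => Nat.beq o 360) (by rw [hc]; rfl)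
  rw [show ((cands [(2, 3), (3, 2), (5, 1)] 360).filter fun g => Nat.beq (ordN g) 360) =
    [.alt 6, .psl 2 9] by decide +kernel] at hg
  simp only [List.mem_cons, List.not_mem_nil, or_false] at hg
  rcases hg with rfl | rfl
  · obtain ⟨e⟩ := hr
    exact fun h => a6 (h.congr e)
  · obtain ⟨F, _, _, hF, ⟨e⟩⟩ := hr
    obtain ⟨f⟩ := S0254.result (F := F) hF
    exact fun h => a6 (h.congr (e.trans f))

theorem no_nine_2520 {K : Type} [Group K] [Finite K] (hK : IsSimpleGroup K) (hna : ¬ ∀ x y : K, x * y = y * x)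
    (hc : Nat.card K = 2520) : ¬ HasOrd K 9 := by
  obtain ⟨g, hg, hr⟩ := exists_real_filter OT (hS K) hna (l := [(2, 3), (3, 2), (5, 1), (7, 1)])
    (N := 2520) (by decide +kernel) (by rw [hc]) (fun o => Nat.beq o 2520) (by rw [hc]; rfl)
  rw [show ((cands [(2, 3), (3, 2), (5, 1), (7, 1)] 2520).filter fun g => Nat.beq (ordN g) 2520) =
    [.alt 7] by decide +kernel] at hg
  rw [List.mem_singleton] at hg
  subst hg
  obtain ⟨e⟩ := hr
  exact fun h => a7 (h.congr e)

omit OT hS in
theorem psl34 {F : Type} [Field F] [Fintype F] (hF : Fintype.card F = 4) :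
    ¬ HasOrd (Matrix.ProjectiveSpecialLinearGroup (Fin 3) F) 9 := by
  rintro ⟨g, hg⟩
  exact H455.NoNine.psl_three_four hF g hg

theorem no_nine_20160 {K : Type} [Group K] [Finite K] (hK : IsSimpleGroup K) (hna : ¬ ∀ x y : K, x * y = y * x)
    (hc : Nat.card K = 20160) : ¬ HasOrd K 9 := by
  obtain ⟨g, hg, hr⟩ := exists_real_filter OT (hS K) hna (l := [(2, 6), (3, 2), (5, 1), (7, 1)])
    (N := 20160) (by decide +kernel) (by rw [hc]) (fun o => Nat.beq o 20160) (by rw [hc]; rfl)
  rw [show ((cands [(2, 6), (3, 2), (5, 1), (7, 1)] 20160).filter fun g => Nat.beq (ordN g) 20160) =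
    [.alt 8, .psl 4 2, .psl 3 4] by decide +kernel] at hg
  simp only [List.mem_cons, List.not_mem_nil, or_false] at hg
  rcases hg with rfl | rfl | rfl
  · obtain ⟨e⟩ := hr
    exact fun h => a8 (h.congr e)
  · obtain ⟨F, _, _, hF, ⟨e⟩⟩ := hr
    obtain ⟨f⟩ := S0256.result (F := F) hF
    exact fun h => a8 (h.congr (e.trans f))
  · obtain ⟨F, _, _, hF, ⟨e⟩⟩ := hr
    exact fun h => psl34 hF (h.congr e)

theorem no_nine_9999360 {K : Type} [Group K] [Finite K] (hK : IsSimpleGroup K)
    (hna : ¬ ∀ x y : K, x * y = y * x) (hc : Nat.card K = 9999360) : ¬ HasOrd K 9 := by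
  obtain ⟨g, hg, hr⟩ := exists_real_filter OT (hS K) hna (l := [(2, 10), (3, 2), (5, 1), (7, 1), (31, 1)])
    (N := 9999360) (by decide +kernel) (by rw [hc]) (fun o => Nat.beq o 9999360) (by rw [hc]; rfl)
  rw [show ((cands [(2, 10), (3, 2), (5, 1), (7, 1), (31, 1)] 9999360).filter fun g => Nat.beq (ordN g) 9999360) =
    [.psl 5 2] by decide +kernel] at hg
  rw [List.mem_singleton] at hg
  subst hg
  obtain ⟨F, _, _, hF, ⟨e⟩⟩ := hr
  exact fun h => psl52 hF (h.congr e)

end Cfsg.Agent.H834.Sax
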